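import Cfsg.Agent.H141.Ux.Stmts
import Cfsg.Agent.H858.RG.Large

/-!
# S5716, unbounded rank: transfer to the simple groups (task 6013, helper105)

`ua : H141.Ux.UA`.
-/

set_option autoImplicit false
set_option linter.unusedSectionVars false

namespace Cfsg.Agent.H105.Ux

open Module Cfsg Cfsg.Agent.H847.Bs Cfsg.Agent.OrdDiv Cfsg.Agent.H436
open Cfsg.Agent.H548.BS (hermFrm isHerm spFrm isSp)
open QuadraticMap Cfsg.Agent.LieClassical.OrthCore Cfsg.Agent.LieClassical.OrthTrans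
  Cfsg.Agent.LieClassical.OrthFinite Cfsg.Agent.LieClassical.OrthForms
open Cfsg.Agent.H858.RG (Cov Cov.trans Cov.card_le cov_of_equiv cov_psl cov_psp cov_psu cov_pomega ker_mul_le ker_mul)
open Cfsg.Agent.H262.Rx (missX UX UX.or UX.mono IsCl rk fld)
open Cfsg.Agent.H141.Ux (Sca Kl cnt Xsl Xf UA)
open Subgroup

section gen

/-- in an abelian simple group every `x ≠ 1` generates -/
theorem missX_eq_zero {T : Type} [Group T] [Finite T] [IsSimpleGroup T] {x : T} (hx : x ≠ 1)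
    (hc : ∀ y : T, y * x = x * y) : missX T x = 0 := by
  have hz : x ∈ center T := mem_center_iff.2 hc
  have hZ : center T = ⊤ := by
    rcases (inferInstance : (center T).Normal).eq_bot_or_eq_top with h | h
    · rw [h, mem_bot] at hz
      exact absurd hz hx
    · exact h
  have hcomm : ∀ a b : T, a * b = b * a := fun a b =>
    (mem_center_iff.1 (hZ ▸ mem_top b : b ∈ center T) a)
  have key : ∀ y : T, closure {x, y} = ⊤ := by
    intro y
    have hn : (closure {x, y}).Normal := ⟨fun a ha g => by rwa [hcomm g a, mul_inv_cancel_right]⟩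
    rcases hn.eq_bot_or_eq_top with h | h
    · exfalso
      have h1 : x ∈ closure {x, y} := subset_closure (by simp)
      rw [h, mem_bot] at h1
      exact hx h1
    · exact h
  have : IsEmpty {y : T // closure {x, y} ≠ ⊤} := ⟨fun y => y.2 (key y.1)⟩
  exact Nat.card_of_isEmpty

variable {F V : Type} [Field F] [AddCommGroup V] [Module F V]

/-- scalars commute with everything -/
theorem sca_comm {x : V ≃ₗ[F] V} (hx : Sca x) (y : V ≃ₗ[F] V) : y * x = x * y := by
  obtain ⟨c, hc⟩ := hx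
  ext v
  change y (x v) = x (y v)
  rw [hc, hc, map_smul]

/-- generation passes to the quotient -/
theorem closure_map_eq_top {G : Subgroup (V ≃ₗ[F] V)} {T : Type} [Group T] (π : G →* T)
    (hπ : Function.Surjective π) (x y : G) (h : closure {(x : V ≃ₗ[F] V), (y : V ≃ₗ[F] V)} = G) :
    closure {π x, π y} = ⊤ := by
  have h1 : closure {x, y} = ⊤ := by
    apply Subgroup.map_injective G.subtype_injective
    rw [MonoidHom.map_closure, Set.image_pair, ← MonoidHom.range_eq_map, Subgroup.range_subtype]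
    exact h
  rw [← Set.image_pair, ← MonoidHom.map_closure, h1]
  exact Subgroup.map_top_of_surjective π hπ

variable [Finite F] [Module.Finite F V]

/-- the transfer along a covering -/
theorem miss_le (G : Subgroup (V ≃ₗ[F] V)) {T T' : Type} [Group T] [Finite T] [IsSimpleGroup T] [Group T']
    (hc : Cov G T') (e : T ≃* T') {ε : ℝ} (hε : 0 < ε)
    (hb : ∀ x ∈ G, ¬ Sca x → (cnt G (fun y => closure {x, y} ≠ G) : ℝ) ≤ ε * Nat.card G) (x : T) (hx : x ≠ 1) :
    (missX T x : ℝ) ≤ ε * Nat.card T := by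
  have : Finite V := Module.finite_of_finite F
  have : Finite (V ≃ₗ[F] V) := Cfsg.Agent.H548.BS.finite_equiv
  obtain ⟨π, hπ⟩ := hc.trans (cov_of_equiv e.symm)
  obtain ⟨z, rfl⟩ := hπ x
  by_cases hs : Sca (z : V ≃ₗ[F] V)
  · rw [missX_eq_zero hx fun y => ?_]
    · rw [Nat.cast_zero]
      positivity
    · obtain ⟨y, rfl⟩ := hπ y
      rw [← map_mul, ← map_mul]
      exact congrArg π (Subtype.ext (sca_comm hs (y : V ≃ₗ[F] V)))
  · have k1 := ker_mul_le π hπ fun t => closure {π z, t} ≠ ⊤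
    have k2 : Nat.card {s : G // closure {π z, π s} ≠ ⊤} ≤ cnt G (fun y => closure {(z : V ≃ₗ[F] V), y} ≠ G) := by
      refine Nat.card_le_card_of_injective (fun s : {s : G // closure {π z, π s} ≠ ⊤} =>
        (⟨(s.1 : V ≃ₗ[F] V), s.1.2, fun h => s.2 (closure_map_eq_top π hπ z s.1 h)⟩ :
          {y : V ≃ₗ[F] V // y ∈ G ∧ closure {(z : V ≃ₗ[F] V), y} ≠ G})) fun a b hab => ?_
      exact Subtype.ext (Subtype.ext (congrArg (fun x : {y : V ≃ₗ[F] V // y ∈ G ∧ closure {(z : V ≃ₗ[F] V), y} ≠ G} => x.1) hab))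
    have k3 : ((Nat.card π.ker * missX T (π z) : ℕ) : ℝ) ≤ ε * Nat.card G :=
      (by exact_mod_cast k1.trans k2 : ((Nat.card π.ker * missX T (π z) : ℕ) : ℝ) ≤ _).trans (hb z z.2 hs)
    rw [← ker_mul π hπ] at k3
    push_cast at k3
    have k4 : (0 : ℝ) < Nat.card π.ker := by exact_mod_cast Nat.card_pos
    have k5 : (Nat.card π.ker : ℝ) * missX T (π z) ≤ Nat.card π.ker * (ε * Nat.card T) := by
      linarith
    exact le_of_mul_le_mul_left k5 k4

end gen

theorem ux_psl (h : Xsl) : UX fun g => ∃ n q, g = .psl n q := by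
  intro ε hε
  obtain ⟨n₀, Q₀, hN⟩ := h ε hε
  refine ⟨n₀, Q₀, ?_⟩
  rintro g T _ _ _ hT ⟨n, q, rfl⟩ hn hq
  obtain ⟨F, _, _, hF, ⟨e⟩⟩ := hT.real
  have hd : finrank F (Fin n → F) = n := finrank_fin_fun F
  have hn' : n₀ ≤ finrank F (Fin n → F) := by rw [hd]; exact hn
  have hq' : Q₀ ≤ Nat.card F := by rw [Nat.card_eq_fintype_card, hF]; exact hq
  exact fun x hx => miss_le _ cov_psl e hε (hN F (Fin n → F) hn' hq') x hx

theorem ux_psp (h : Xf) : UX fun g => ∃ n q, g = .psp n q := by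
  intro ε hε
  obtain ⟨n₀, Q₀, hN⟩ := h ε hε
  refine ⟨n₀, Q₀, ?_⟩
  rintro g T _ _ _ hT ⟨m, q, rfl⟩ hn hq
  obtain ⟨F, _, _, hF, ⟨e⟩⟩ := hT.real
  have hn' : n₀ ≤ finrank F (Fin m ⊕ Fin m → F) := by
    rw [finrank_fintype_fun_eq_card, Fintype.card_sum, Fintype.card_fin, ← two_mul]
    exact (show n₀ ≤ m from hn).trans (by omega)
  have hq' : Q₀ ≤ Nat.card F := by rw [Nat.card_eq_fintype_card, hF]; exact hq
  exact fun x hx => miss_le _ cov_psp e hε (hN F _ (spFrm m) (spFrm m).Iso 1 (Nat.card F)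
    (Or.inl ⟨isSp m, rfl, rfl, rfl⟩) hn' hq') x hx

theorem ux_psu (h : Xf) : UX fun g => ∃ n q, g = .psu n q := by
  intro ε hε
  obtain ⟨n₀, Q₀, hN⟩ := h ε hε
  refine ⟨n₀, Q₀, ?_⟩
  rintro g T _ _ _ hT ⟨n, q, rfl⟩ hn hq
  obtain ⟨F, _, _, hF, ⟨e⟩⟩ := hT.real
  have hn' : n₀ ≤ finrank F (Fin n → F) := by rw [finrank_fin_fun]; exact hn
  exact fun x hx => miss_le _ (cov_psu hF) e hε (hN F (Fin n → F) (hermFrm n hF) _ q q
    (Or.inr (Or.inl ⟨q, isHerm n hF, rfl, rfl, rfl⟩)) hn' hq) x hx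

theorem ux_orth (h : Xf) : UX fun g => (∃ m q, g = .oodd m q) ∨ (∃ m q, g = .oplus m q) ∨
    (∃ m q, g = .ominus m q) := by
  intro ε hε
  obtain ⟨n₀, Q₀, hN⟩ := h ε hε
  refine ⟨n₀, Q₀, ?_⟩
  rintro g T _ _ _ hT (⟨m, q, rfl⟩ | ⟨m, q, rfl⟩ | ⟨m, q, rfl⟩) hn hq
  · obtain ⟨F, _, _, hF, ⟨e⟩⟩ := hT.real
    have ho : Odd q := hT.cond.2.1
    have hm : 3 ≤ m := hT.cond.1
    have h2 : (2 : F) ≠ 0 := by
      intro h2
      have h3' : CharP F 2 := by
        refine (CharP.charP_iff_prime_eq_zero Nat.prime_two).2 ?_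
        exact_mod_cast h2
      have h3 : ringChar F = 2 := ringChar.eq_iff.2 h3'
      have h4 := FiniteField.even_card_iff_char_two.1 h3
      rw [hF] at h4
      have := Nat.odd_iff.1 ho
      omega
    have hQ := nondeg_oddForm (F := F) (m := m) h2
    have hcard : Fintype.card (Unit ⊕ (Fin m ⊕ Fin m)) = 2 * m + 1 := by
      rw [Fintype.card_sum, Fintype.card_sum, Fintype.card_fin, Fintype.card_unit]; omega
    have hG : Good (oddForm m F) := good_of_finite hQ (by rw [finrank_fintype_fun_eq_card, hcard]; omega)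
    have hn' : n₀ ≤ finrank F (Unit ⊕ (Fin m ⊕ Fin m) → F) := by
      rw [finrank_fintype_fun_eq_card, hcard]; exact (show n₀ ≤ m from hn).trans (by omega)
    have hq' : Q₀ ≤ Nat.card F := by rw [Nat.card_eq_fintype_card, hF]; exact hq
    have hc := cov_pomega hG
    rw [coe_oddForm] at hc
    exact fun x hx => miss_le _ hc e hε (hN F _ (frmQ (oddForm m F)) (E (oddForm m F)) (Nat.card F) (Nat.card F)
      (Or.inr (Or.inr ⟨oddForm m F, hQ, rfl, rfl, rfl, rfl⟩)) hn' hq') x hx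
  · obtain ⟨F, _, _, hF, ⟨e⟩⟩ := hT.real
    have hm : 4 ≤ m := hT.cond.1
    have hQ := nondeg_plusForm (F := F) (m := m)
    have hcard : Fintype.card (Fin m ⊕ Fin m) = 2 * m := by
      rw [Fintype.card_sum, Fintype.card_fin]; omega
    have hG : Good (plusForm m F) := good_of_finite hQ (by rw [finrank_fintype_fun_eq_card, hcard]; omega)
    have hn' : n₀ ≤ finrank F (Fin m ⊕ Fin m → F) := by
      rw [finrank_fintype_fun_eq_card, hcard]; exact (show n₀ ≤ m from hn).trans (by omega)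
    have hq' : Q₀ ≤ Nat.card F := by rw [Nat.card_eq_fintype_card, hF]; exact hq
    have hc := cov_pomega hG
    rw [coe_plusForm] at hc
    exact fun x hx => miss_le _ hc e hε (hN F _ (frmQ (plusForm m F)) (E (plusForm m F)) (Nat.card F) (Nat.card F)
      (Or.inr (Or.inr ⟨plusForm m F, hQ, rfl, rfl, rfl, rfl⟩)) hn' hq') x hx
  · obtain ⟨F, _, _, a, b, hF, hab, ⟨e⟩⟩ := hT.real
    have hm : 4 ≤ m := hT.cond.1
    have hQ := nondeg_minusForm (F := F) (m := m - 1) a b hab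
    have hcard : Fintype.card ((Fin (m - 1) ⊕ Fin (m - 1)) ⊕ Fin 2) = 2 * m := by
      rw [Fintype.card_sum, Fintype.card_sum, Fintype.card_fin, Fintype.card_fin]; omega
    have hG : Good (minusForm (m - 1) F a b) :=
      good_of_finite hQ (by rw [finrank_fintype_fun_eq_card, hcard]; omega)
    have hn' : n₀ ≤ finrank F ((Fin (m - 1) ⊕ Fin (m - 1)) ⊕ Fin 2 → F) := by
      rw [finrank_fintype_fun_eq_card, hcard]; exact (show n₀ ≤ m from hn).trans (by omega)
    have hq' : Q₀ ≤ Nat.card F := by rw [Nat.card_eq_fintype_card, hF]; exact hq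
    have hc := cov_pomega hG
    rw [coe_minusForm] at hc
    exact fun x hx => miss_le _ hc e hε (hN F _ (frmQ (minusForm (m - 1) F a b)) (E (minusForm (m - 1) F a b))
      (Nat.card F) (Nat.card F) (Or.inr (Or.inr ⟨minusForm (m - 1) F a b, hQ, rfl, rfl, rfl, rfl⟩)) hn' hq') x hx

/-- **UA** (task 6013) -/
theorem ua : Cfsg.Agent.H141.Ux.UA := by
  intro h1 h2
  refine UX.mono ?_ (((ux_psl h1).or (ux_psp h2)).or ((ux_psu h2).or (ux_orth h2)))
  rintro g (h | h | h | h | h | h)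
  · exact Or.inl (Or.inl h)
  · exact Or.inl (Or.inr h)
  · exact Or.inr (Or.inl h)
  · exact Or.inr (Or.inr (Or.inl h))
  · exact Or.inr (Or.inr (Or.inr (Or.inl h)))
  · exact Or.inr (Or.inr (Or.inr (Or.inr h)))

end Cfsg.Agent.H105.Ux
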